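import Groth.Agent.PerfGen7.RelPerfBC.RingCore
import Groth.Agent.FlatCxLib.BoundedFlat
import Groth.Agent.KFlatLib.Scheme.PullCx

/-!
# Base change of acyclic complexes with terms flat over the base
-/

set_option backward.isDefEq.respectTransparency false
set_option backward.isDefEq.respectTransparency.types false
set_option linter.style.haveILetI false
set_option autoImplicit false

universe u

open CategoryTheory CategoryTheory.Limits AlgebraicGeometry TopologicalSpace Opposite TensorProduct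

namespace Groth.Agent.PerfGen7.RelPerfBC

open Groth.Agent.KFlatLib

theorem acyclic_pullback_of_flatOver {X S X' S' : Scheme.{u}} (f : X ⟶ S) (f' : X' ⟶ S') (g' : X' ⟶ X)
    (g : S' ⟶ S) (hc : IsPullback g' f' f g) (C : CochainComplex X.Modules ℤ) (b : ℤ)
    (hb : ∀ i, b < i → IsZero (C.X i)) (hfl : ∀ i, FlatMod.IsFlatOver f (C.X i)) (hac : C.Acyclic) :
    ((pullCx g').obj C).Acyclic := by
  refine (acyclic_iff_stalk _).2 fun x' => acyclic_of_iso (stalkPullCxIso g' x' C).symm fun j => ?_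
  obtain ⟨U, hU, hxU, -⟩ := exists_isAffineOpen_mem_and_subset (x := f (g' x')) (U := ⊤) trivial
  obtain ⟨V, hV, hxV, hVU'⟩ := exists_isAffineOpen_mem_and_subset (x := g' x') (U := f ⁻¹ᵁ U) hxU
  have hVU : V ≤ f ⁻¹ᵁ U := hVU'
  have hyU : f' x' ∈ g ⁻¹ᵁ U := by
    show g (f' x') ∈ U
    rw [← Scheme.Hom.comp_apply, ← hc.w]; exact hxU
  obtain ⟨U', hU', hyU', hU'U'⟩ := exists_isAffineOpen_mem_and_subset (x := f' x') (U := g ⁻¹ᵁ U) hyU
  have hU'U : U' ≤ g ⁻¹ᵁ U := hU'U'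
  let W : X'.Opens := g' ⁻¹ᵁ V ⊓ f' ⁻¹ᵁ U'
  have hxW : x' ∈ W := ⟨hxV, hyU'⟩
  have hW : IsAffineOpen W := by
    haveI : IsAffine _ := hU
    haveI : IsAffine _ := hU'
    haveI : IsAffine _ := hV
    exact .of_isIso (Scheme.Hom.isPullback_resLE hc hU'U hVU (UY := W) rfl).isoPullback.hom
  have hpo := (isIso_pushoutSection_iff hc hU'U hVU (UY := W) rfl).mp
    (isIso_pushoutSection_of_isAffineOpen hc hU'U hVU rfl hU hU' hV)
  letI : Algebra Γ(S, U) Γ(X, V) := (f.appLE U V hVU).hom.toAlgebra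
  letI : Algebra Γ(S, U) Γ(S', U') := (g.appLE U U' hU'U).hom.toAlgebra
  letI : Algebra Γ(X, V) Γ(X', W) := (g'.appLE V W inf_le_left).hom.toAlgebra
  letI : Algebra Γ(S', U') Γ(X', W) := (f'.appLE U' W inf_le_right).hom.toAlgebra
  letI : Algebra Γ(S, U) Γ(X', W) := (f.appLE U V hVU ≫ g'.appLE V W inf_le_left).hom.toAlgebra
  haveI : IsScalarTower Γ(S, U) Γ(X, V) Γ(X', W) := .of_algebraMap_eq fun _ => rfl
  haveI : IsScalarTower Γ(S, U) Γ(S', U') Γ(X', W) := .of_algebraMap_eq fun r => congr($(hpo.w).hom r)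
  haveI : Algebra.IsPushout Γ(S, U) Γ(S', U') Γ(X, V) Γ(X', W) :=
    CommRingCat.isPushout_iff_isPushout.mp hpo.flip
  letI : Algebra Γ(X', W) (X'.presheaf.stalk x') := (X'.presheaf.germ W x' hxW).hom.toAlgebra
  letI : Algebra Γ(X, V) (X'.presheaf.stalk x') :=
    (g'.appLE V W inf_le_left ≫ X'.presheaf.germ W x' hxW).hom.toAlgebra
  haveI : IsScalarTower Γ(X, V) Γ(X', W) (X'.presheaf.stalk x') := .of_algebraMap_eq fun _ => rfl
  haveI : Module.Flat Γ(X', W) (X'.presheaf.stalk x') :=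
    haveI := hW.isLocalization_stalk ⟨x', hxW⟩
    IsLocalization.flat (X'.presheaf.stalk x') (hW.primeIdealOf ⟨x', hxW⟩).asIdeal.primeCompl
  letI : Algebra Γ(X, V) (X.presheaf.stalk (g' x')) := (X.presheaf.germ V (g' x') hxV).hom.toAlgebra
  haveI := hV.isLocalization_stalk ⟨g' x', hxV⟩
  letI : Algebra (X.presheaf.stalk (g' x')) (X'.presheaf.stalk x') := (g'.stalkMap x').hom.toAlgebra
  haveI : IsScalarTower Γ(X, V) (X.presheaf.stalk (g' x')) (X'.presheaf.stalk x') :=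
    .of_algebraMap_eq fun a => by
      show X'.presheaf.germ W x' hxW (g'.appLE V W inf_le_left a) =
        g'.stalkMap x' (X.presheaf.germ V (g' x') hxV a)
      rw [Scheme.Hom.germ_stalkMap_apply g' V x' hxV a]
      exact X'.presheaf.germ_res_apply (homOfLE inf_le_left) x' hxW _
  let K := (stalkCx (g'.base x')).obj C
  letI : ∀ i, Module Γ(X, V) (K.X i) := fun i =>
    Module.compHom _ (X.presheaf.germ V (g' x') hxV).hom
  haveI : ∀ i, IsScalarTower Γ(X, V) (X.presheaf.stalk (g' x')) (K.X i) := fun i =>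
    .of_algebraMap_smul fun _ _ => rfl
  letI : ∀ i, Module Γ(S, U) (K.X i) := fun i =>
    Module.compHom _ ((f.appLE U V hVU) ≫ X.presheaf.germ V (g' x') hxV).hom
  haveI : ∀ i, IsScalarTower Γ(S, U) Γ(X, V) (K.X i) := fun i =>
    .of_algebraMap_smul fun _ _ => rfl
  let D : CochainComplex (ModuleCat.{u} Γ(S, U)) ℤ :=
    ((ModuleCat.restrictScalars ((f.appLE U V hVU) ≫ X.presheaf.germ V (g' x') hxV).hom).mapHomologicalComplex
      (ComplexShape.up ℤ)).obj K
  have hD : ∀ i, Module.Flat Γ(S, U) (D.X i) := fun i => (QCoh.isFlatOverAt_iff f hU hVU hxV).mp (hfl i (g' x'))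
  have hDb : ∀ i, b < i → IsZero (D.X i) := fun i hi =>
    (ModuleCat.restrictScalars _).map_isZero ((DerSch.stalkFunctor X (g' x')).map_isZero (hb i hi))
  have hDac : ∀ i, D.ExactAt i := fun i =>
    ((acyclic_iff_stalk C).1 hac (g' x') i).map (ModuleCat.restrictScalars _)
  have hT := FlatCxLib.exactAt_tensorRight_of_acyclic D hD hDb hDac (ModuleCat.of Γ(S, U) Γ(S', U')) j
  obtain ⟨i, rfl⟩ : ∃ i, i + 1 = j := ⟨j - 1, by lia⟩
  rw [HomologicalComplex.exactAt_iff' _ i (i + 1) (i + 1 + 1) (by simp) (by simp),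
    ShortComplex.ShortExact.moduleCat_exact_iff_function_exact] at hT ⊢
  exact exact_core (R := Γ(S, U)) (A := Γ(X, V)) (R' := Γ(S', U')) (B' := Γ(X', W))
    (L := X'.presheaf.stalk x') (hV.primeIdealOf ⟨g' x', hxV⟩).asIdeal.primeCompl
    (K.d i (i + 1)).hom (K.d (i + 1) (i + 1 + 1)).hom
    ((LinearMap.rTensor_exact_iff_lTensor_exact _).1 hT)

end Groth.Agent.PerfGen7.RelPerfBC
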