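import Groth.Agent.PerfGen7.RelPerfBC.Acyclic
import Groth.Agent.PerfLocus7.RelFlat
import Groth.Agent.PerfLocus7.RelFlatBasic
import Groth.Agent.KFlatLib.Perfect.Basic

/-!
# Base change of finite relative tor dimension
-/

set_option backward.isDefEq.respectTransparency false
set_option backward.isDefEq.respectTransparency.types false
set_option linter.style.haveILetI false
set_option autoImplicit false

universe u

open CategoryTheory CategoryTheory.Limits AlgebraicGeometry CochainComplex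

attribute [local instance] HasDerivedCategory.standard

namespace Groth.Agent.PerfGen7.RelPerfBC

open Groth.Agent.KFlatLib

variable {X S X' S' : Scheme.{u}}

/-- A flat module is flat over the base of a flat morphism. -/
theorem isFlatOver_of_isFlat (f : X ⟶ S) [Flat f] {H : X.Modules} (hH : FlatMod.IsFlat H) :
    FlatMod.IsFlatOver f H := fun x => by
  show FlatMod.IsFlatOverAt f H x
  unfold FlatMod.IsFlatOverAt
  letI := FlatMod.moduleStalkOver f H x
  letI : Algebra (S.presheaf.stalk (f.base x)) (X.presheaf.stalk x) :=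
    (f.stalkMap x).hom.toAlgebra
  haveI : IsScalarTower (S.presheaf.stalk (f.base x)) (X.presheaf.stalk x) (H.presheaf.stalk x) :=
    IsScalarTower.of_algebraMap_smul fun _ _ => rfl
  haveI : Module.Flat (S.presheaf.stalk (f.base x)) (X.presheaf.stalk x) := Flat.stalkMap f x
  haveI : Module.Flat (X.presheaf.stalk x) (H.presheaf.stalk x) := hH x
  exact Module.Flat.trans _ (X.presheaf.stalk x) _

/-- The terms of a mapping cone. -/
noncomputable def coneXIso {C : Type*} [Category C] [Abelian C] {P E : CochainComplex C ℤ} (φ : P ⟶ E) (n : ℤ) :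
    (mappingCone φ).X n ≅ P.X (n + 1) ⊞ E.X n where
  hom := biprod.lift ((mappingCone.fst φ).1.v n (n + 1) rfl) ((mappingCone.snd φ).v n n (add_zero n))
  inv := biprod.desc ((mappingCone.inl φ).v (n + 1) n (by lia)) ((mappingCone.inr φ).f n)
  hom_inv_id := by simp [mappingCone.id_X]
  inv_hom_id := by apply biprod.hom_ext <;> apply biprod.hom_ext' <;> simp

/-- A bounded complex of modules flat over the base computes the derived base change. -/
theorem exists_lpull_relFlat (f : X ⟶ S) [Flat f] (f' : X' ⟶ S') (g' : X' ⟶ X) (g : S' ⟶ S)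
    (hc : IsPullback g' f' f g) [DCoh.HasLpull g'] {E : CochainComplex X.Modules ℤ} {a b : ℤ}
    (hz : DCoh.VanishesOutside E a b) (hf : ∀ i, FlatMod.IsFlatOver f (E.X i)) :
    Nonempty (DCoh.toD X' ((pullCx g').obj E) ≅ (DCoh.Lpull g').obj (DCoh.toD X E)) := by
  obtain ⟨P, ψ, hψ, hflat, hPb⟩ := (flatCover X).exists_bounded_resolution E b
    fun m hm => ShortComplex.isZero_homology_of_isZero_X₂ _ (hz m (Or.inr hm))
  haveI : P.IsStrictlyLE b := (CochainComplex.isStrictlyLE_iff P b).2 hPb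
  have hP : DCoh.IsKFlat P := isKFlat_of_isStrictlyLE P b hflat
  haveI := hψ
  haveI : QuasiIso ((pullCx g').map ψ) := quasiIso_of_acyclic_cone _ (acyclic_of_iso
    (mappingCone.mapHomologicalComplexIso ψ (Scheme.Modules.pullback g'))
    (acyclic_pullback_of_flatOver f f' g' g hc _ b
      (fun i hi => IsZero.of_iso ((biprod_isZero_iff _ _).2 ⟨hPb _ (by lia), hz i (Or.inr hi)⟩) (coneXIso ψ i))
      (fun i => PerfLocus7.isFlatOver_of_iso f (coneXIso ψ i).symm
        (PerfLocus7.isFlatOver_biprod f (isFlatOver_of_isFlat f (hflat (i + 1))) (hf i)))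
      (acyclic_cone_of_quasiIso ψ)))
  haveI := isIso_Q_map _ ‹QuasiIso ((pullCx g').map ψ)›
  haveI := isIso_Q_map _ hψ
  exact ⟨(asIso (DerivedCategory.Q.map ((pullCx g').map ψ))).symm ≪≫ (lpullIso g' hP).symm ≪≫
    (DCoh.Lpull g').mapIso (asIso (DerivedCategory.Q.map ψ))⟩

/-- Finite relative tor dimension is stable under base change. -/
theorem locHasFiniteRelTorDim_lpull (f : X ⟶ S) [Flat f] (f' : X' ⟶ S') (g' : X' ⟶ X) (g : S' ⟶ S)
    (hc : IsPullback g' f' f g) [DCoh.HasLpull g'] {K : DCoh.D X} (hK : DCoh.LocHasFiniteRelTorDim f K) :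
    DCoh.LocHasFiniteRelTorDim f' ((DCoh.Lpull g').obj K) := by
  refine (PerfLocus7.locHasFiniteRelTorDim_iff (f := f') _).2 fun x' => ?_
  obtain ⟨V, a, b, hx, hV⟩ := hK (g'.base x')
  obtain ⟨E, hz, hf, ⟨e⟩⟩ := hV (repK K) ⟨repKIso K⟩
  have hc' : IsPullback (g' ∣_ V) ((g' ⁻¹ᵁ V).ι ≫ f') (V.ι ≫ f) g :=
    (isPullback_morphismRestrict g' V).paste_vert hc
  haveI := hasLpull (g' ∣_ V)
  obtain ⟨eE⟩ := exists_lpull_relFlat (V.ι ≫ f) ((g' ⁻¹ᵁ V).ι ≫ f') (g' ∣_ V) g hc' hz hf
  refine ⟨_, (g' ⁻¹ᵁ V).ι, inferInstance, ⟨⟨x', hx⟩, rfl⟩, a, b, (pullCx (g' ∣_ V)).obj E,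
    fun i hi => (Scheme.Modules.pullback (g' ∣_ V)).map_isZero (hz i hi),
    fun i z => MorLib.FlatBC.isFlatOverAt_baseChange _ _ _ _ hc' (E.X i) z (hf i _), ⟨?_⟩⟩
  exact eE ≪≫ (DCoh.Lpull (g' ∣_ V)).mapIso e ≪≫ lpullIso (g' ∣_ V) (isKFlat_restrict V.ι (isKFlat_repK K)) ≪≫
    DerivedCategory.Q.mapIso (restrictPullIso g' V (repK K)).symm ≪≫
    ((rhoQ (g' ⁻¹ᵁ V).ι).app _).symm ≪≫ (rho (g' ⁻¹ᵁ V).ι).mapIso (lpullRepIso g' K)

end Groth.Agent.PerfGen7.RelPerfBC
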