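import Groth.Agent.MorLib.FlatBC
import Mathlib.RingTheory.Flat.Basic
import Mathlib.RingTheory.IsTensorProduct

/-!
# Exactness after a base change of rings
-/

set_option linter.style.haveILetI false
set_option autoImplicit false

universe u

open TensorProduct

namespace Groth.Agent.PerfGen7.RelPerfBC

theorem exact_pushout_tensor {R A R' B' N₁ N₂ N₃ : Type u} [CommRing R] [CommRing A] [CommRing R'] [CommRing B']
    [Algebra R A] [Algebra R R'] [Algebra A B'] [Algebra R' B'] [Algebra R B'] [IsScalarTower R A B']
    [IsScalarTower R R' B'] [Algebra.IsPushout R R' A B']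
    [AddCommGroup N₁] [Module A N₁] [Module R N₁] [IsScalarTower R A N₁]
    [AddCommGroup N₂] [Module A N₂] [Module R N₂] [IsScalarTower R A N₂]
    [AddCommGroup N₃] [Module A N₃] [Module R N₃] [IsScalarTower R A N₃]
    (l : N₁ →ₗ[A] N₂) (l' : N₂ →ₗ[A] N₃)
    (h : Function.Exact ((l.restrictScalars R).lTensor R') ((l'.restrictScalars R).lTensor R')) :
    Function.Exact (l.lTensor B') (l'.lTensor B') := by
  refine Function.Exact.of_ladder_addEquiv_of_exact
    (f₁₂ := ((l.restrictScalars R).lTensor R').toAddMonoidHom)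
    (f₂₃ := ((l'.restrictScalars R).lTensor R').toAddMonoidHom)
    (g₁₂ := (l.lTensor B').toAddMonoidHom) (g₂₃ := (l'.lTensor B').toAddMonoidHom)
    (e₁ := (Algebra.IsPushout.cancelBaseChange R R' A B' N₁).symm.toAddEquiv)
    (e₂ := (Algebra.IsPushout.cancelBaseChange R R' A B' N₂).symm.toAddEquiv)
    (e₃ := (Algebra.IsPushout.cancelBaseChange R R' A B' N₃).symm.toAddEquiv) ?_ ?_ h
  all_goals
    ext z
    induction z using TensorProduct.induction_on with
    | zero => simp
    | add a b ha hb => simp only [map_add, ha, hb]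
    | tmul s m => simp

theorem exact_flat_tensor {A B' L N₁ N₂ N₃ : Type u} [CommRing A] [CommRing B'] [CommRing L]
    [Algebra A B'] [Algebra B' L] [Algebra A L] [IsScalarTower A B' L] [Module.Flat B' L]
    [AddCommGroup N₁] [Module A N₁] [AddCommGroup N₂] [Module A N₂] [AddCommGroup N₃] [Module A N₃]
    (l : N₁ →ₗ[A] N₂) (l' : N₂ →ₗ[A] N₃) (h : Function.Exact (l.lTensor B') (l'.lTensor B')) :
    Function.Exact (l.lTensor L) (l'.lTensor L) := by
  have h2 : Function.Exact ((l.baseChange B').lTensor L) ((l'.baseChange B').lTensor L) :=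
    Module.Flat.lTensor_exact L h
  refine Function.Exact.of_ladder_addEquiv_of_exact
    (f₁₂ := ((l.baseChange B').lTensor L).toAddMonoidHom)
    (f₂₃ := ((l'.baseChange B').lTensor L).toAddMonoidHom)
    (g₁₂ := (l.lTensor L).toAddMonoidHom) (g₂₃ := (l'.lTensor L).toAddMonoidHom)
    (e₁ := (AlgebraTensorModule.cancelBaseChange A B' L L N₁).toAddEquiv)
    (e₂ := (AlgebraTensorModule.cancelBaseChange A B' L L N₂).toAddEquiv)
    (e₃ := (AlgebraTensorModule.cancelBaseChange A B' L L N₃).toAddEquiv) ?_ ?_ h2
  all_goals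
    ext z
    induction z using TensorProduct.induction_on with
    | zero => simp
    | add a b ha hb => simp only [map_add, ha, hb]
    | tmul p w =>
      induction w using TensorProduct.induction_on with
      | zero => simp
      | add a b ha hb => simp only [TensorProduct.tmul_add, map_add, ha, hb]
      | tmul s m => simp [AlgebraTensorModule.cancelBaseChange_tmul]

theorem exact_core {R A R' B' L O N₁ N₂ N₃ : Type u} [CommRing R] [CommRing A] [CommRing R'] [CommRing B']
    [CommRing L] [CommRing O] [Algebra R A] [Algebra R R'] [Algebra A B'] [Algebra R' B'] [Algebra R B']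
    [IsScalarTower R A B'] [IsScalarTower R R' B'] [Algebra.IsPushout R R' A B']
    [Algebra B' L] [Algebra A L] [IsScalarTower A B' L] [Module.Flat B' L]
    [Algebra A O] (S : Submonoid A) [IsLocalization S O] [Algebra O L] [IsScalarTower A O L]
    [AddCommGroup N₁] [Module O N₁] [Module A N₁] [IsScalarTower A O N₁] [Module R N₁] [IsScalarTower R A N₁]
    [AddCommGroup N₂] [Module O N₂] [Module A N₂] [IsScalarTower A O N₂] [Module R N₂] [IsScalarTower R A N₂]
    [AddCommGroup N₃] [Module O N₃] [Module A N₃] [IsScalarTower A O N₃] [Module R N₃] [IsScalarTower R A N₃]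
    (l : N₁ →ₗ[O] N₂) (l' : N₂ →ₗ[O] N₃)
    (h : Function.Exact (((l.restrictScalars A).restrictScalars R).lTensor R')
      (((l'.restrictScalars A).restrictScalars R).lTensor R')) :
    Function.Exact (l.lTensor L) (l'.lTensor L) := by
  haveI := IsLocalization.tensorProduct_compatibleSMul S O L N₁
  haveI := IsLocalization.tensorProduct_compatibleSMul S O L N₂
  haveI := IsLocalization.tensorProduct_compatibleSMul S O L N₃
  have h1 : Function.Exact ((l.restrictScalars A).lTensor L) ((l'.restrictScalars A).lTensor L) :=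
    exact_flat_tensor (B' := B') _ _ (exact_pushout_tensor (R := R) (R' := R') _ _ h)
  refine Function.Exact.of_ladder_addEquiv_of_exact
    (f₁₂ := ((l.restrictScalars A).lTensor L).toAddMonoidHom)
    (f₂₃ := ((l'.restrictScalars A).lTensor L).toAddMonoidHom)
    (g₁₂ := (l.lTensor L).toAddMonoidHom) (g₂₃ := (l'.lTensor L).toAddMonoidHom)
    (e₁ := (equivOfCompatibleSMul A O L L N₁).symm.toAddEquiv)
    (e₂ := (equivOfCompatibleSMul A O L L N₂).symm.toAddEquiv)
    (e₃ := (equivOfCompatibleSMul A O L L N₃).symm.toAddEquiv) ?_ ?_ h1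
  all_goals
    ext z
    induction z using TensorProduct.induction_on with
    | zero => simp
    | add a b ha hb => simp only [map_add, ha, hb]
    | tmul s m => rfl

end Groth.Agent.PerfGen7.RelPerfBC
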